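import Groth.Agent.Etbc.H136.SUnit
import Groth.Agent.CurvesA.UnitThm
import Mathlib.RingTheory.Jacobson.Ring
import Mathlib.RingTheory.DedekindDomain.FiniteAdeleRing
import Mathlib.Algebra.Algebra.ZMod
import Mathlib.RingTheory.Ideal.MinimalPrime.Noetherian

/-!
# Units of a reduced ring of finite type over `ℤ` are finitely generated

Author: helper792
-/

set_option autoImplicit false
universe u v

open NumberField IsDedekindDomain Module Groth.Agent

namespace K792.Units

/-- `S`-units of a number field. -/
theorem finite_sUnit (K : Type v) [Field K] [NumberField K] (S : Set (HeightOneSpectrum (𝓞 K))) (hS : S.Finite) :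
    Module.Finite ℤ (Additive (S.unit K)) := by
  classical
  have : Finite S := hS
  have := Fintype.ofFinite S
  let V := (Etbc.H136.SUnit.valS (K := K) S).toIntLinearMap
  let f := (Etbc.H136.SUnit.ofUnits (K := K) S).toIntLinearMap
  have hker : LinearMap.ker V = LinearMap.range f := by
    ext x
    exact Etbc.H136.SUnit.exact_ofUnits S x
  let e1 : Additive (𝓞 K)ˣ ≃ₗ[ℤ] LinearMap.ker V :=
    (LinearEquiv.ofInjective f (Etbc.H136.SUnit.ofUnits_injective S)).trans (LinearEquiv.ofEq _ _ hker.symm)
  let e2 := V.quotKerEquivRange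
  have hf1 : Module.Finite ℤ (LinearMap.ker V) := Module.Finite.equiv e1
  have hf2 : Module.Finite ℤ (Additive (S.unit K) ⧸ LinearMap.ker V) :=
    Module.Finite.equiv e2.symm
  exact Module.Finite.of_submodule_quotient (LinearMap.ker V)

/-- The image of a finite type ring in a number field consists of `S`-integers. -/
theorem exists_integer {A : Type u} [CommRing A] [Algebra.FiniteType ℤ A] {F : Type v} [Field F] [NumberField F]
    (φ : A →+* F) : ∃ S : Set (HeightOneSpectrum (𝓞 F)), S.Finite ∧ ∀ a, φ a ∈ S.integer F := by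
  obtain ⟨s, hs⟩ := ‹Algebra.FiniteType ℤ A›.out
  let S : Set (HeightOneSpectrum (𝓞 F)) := ⋃ a ∈ s, {v | 1 < v.valuation F (φ a)}
  refine ⟨S, ?_, ?_⟩
  · refine Set.Finite.biUnion s.finite_toSet fun a _ => ?_
    exact HeightOneSpectrum.Support.finite (𝓞 F) (φ a)
  · intro a
    have ha : a ∈ Algebra.adjoin ℤ (s : Set A) := hs ▸ trivial
    refine Algebra.adjoin_induction (p := fun x _ => φ x ∈ S.integer F) ?_ ?_ ?_ ?_ ha
    · intro x hx v hv
      by_contra hcon
      exact hv (Set.mem_iUnion₂.2 ⟨x, hx, not_le.1 hcon⟩)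
    · intro r
      rw [eq_intCast, map_intCast]
      exact intCast_mem _ r
    · intro x y _ _ hx hy
      rw [map_add]
      exact add_mem hx hy
    · intro x y _ _ hx hy
      rw [map_mul]
      exact mul_mem hx hy

/-- Units are detected by finitely many integer valued functions and the value at a closed point. -/
theorem exists_inj (k : Type*) (R : Type u) [Field k] [CommRing R] [IsDomain R] [Algebra k R] [Algebra.FiniteType k R]
    (m : Ideal R) (hm : m ≠ ⊤) : ∃ (n : ℕ) (φ : Rˣ →* (Fin n → Multiplicative ℤ)),
      ∀ u : Rˣ, φ u = 1 → Ideal.Quotient.mk m (u : R) = 1 → u = 1 := by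
  obtain ⟨n, φ, hφ⟩ := CurvesA.UnitThm.exists_hom k R
  refine ⟨n, φ, fun u hu h1 => ?_⟩
  have h2 : IsIntegral k ((u : R) - 1) := (hφ u hu).sub isIntegral_one
  by_contra hne
  have h3 : (u : R) - 1 ≠ 0 := fun h => hne (Units.ext (by rw [Units.val_one]; exact sub_eq_zero.1 h))
  have h4 : IsUnit ((u : R) - 1) := by
    have h5 : IsIntegral k ((u : R) - 1) := h2
    have h6 : IsField (Algebra.adjoin k {(u : R) - 1}) := by
      have : Algebra.IsIntegral k (Algebra.adjoin k {(u : R) - 1}) :=
        Algebra.IsIntegral.adjoin (by simpa using h5)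
      exact isField_of_isIntegral_of_isField' (Field.toIsField k)
    let w : Algebra.adjoin k {(u : R) - 1} := ⟨(u : R) - 1, Algebra.self_mem_adjoin_singleton _ _⟩
    have hw : w ≠ 0 := fun h => h3 congr(($h : R))
    obtain ⟨w', hw'⟩ := h6.mul_inv_cancel hw
    exact IsUnit.of_mul_eq_one _ congr(($hw' : R))
  apply hm
  refine Ideal.eq_top_of_isUnit_mem _ ?_ h4
  rw [← Ideal.Quotient.eq_zero_iff_mem, map_sub, h1, map_one, sub_self]

theorem finite_of_inj {G H : Type*} [CommGroup G] [CommGroup H] (f : G →* H) (hf : Function.Injective f)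
    [hH : Module.Finite ℤ (Additive H)] : Module.Finite ℤ (Additive G) := by
  have h1 : IsNoetherian ℤ (Additive H) := isNoetherian_of_isNoetherianRing_of_finite ℤ _
  let F : Additive G →ₗ[ℤ] Additive H := (MonoidHom.toAdditive f).toIntLinearMap
  have : IsNoetherian ℤ (Additive G) := isNoetherian_of_injective F (by
    intro x y hxy
    exact hf hxy)
  infer_instance

instance (n : ℕ) : Module.Finite ℤ (Additive (Fin n → Multiplicative ℤ)) := by
  let e : (Fin n → ℤ) →+ Additive (Fin n → Multiplicative ℤ) :=
    { toFun := fun f => Additive.ofMul fun i => Multiplicative.ofAdd (f i)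
      map_zero' := rfl
      map_add' := fun _ _ => rfl }
  refine Module.Finite.of_surjective e.toIntLinearMap fun x => ⟨fun i => Multiplicative.toAdd (x.toMul i), rfl⟩

theorem finite_prod {G H : Type*} [CommGroup G] [CommGroup H] [Module.Finite ℤ (Additive G)]
    [Module.Finite ℤ (Additive H)] : Module.Finite ℤ (Additive (G × H)) := by
  let e : (Additive G × Additive H) →+ Additive (G × H) :=
    { toFun := fun f => Additive.ofMul (f.1.toMul, f.2.toMul)
      map_zero' := rfl
      map_add' := fun _ _ => rfl }
  refine Module.Finite.of_surjective e.toIntLinearMap fun x => ⟨(Additive.ofMul x.toMul.1, Additive.ofMul x.toMul.2), rfl⟩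

/-- The case of a domain. -/
theorem finite_domain (A : Type u) [CommRing A] [IsDomain A] [Algebra.FiniteType ℤ A] :
    Module.Finite ℤ (Additive Aˣ) := by
  obtain ⟨p, hp⟩ := CharP.exists A
  rcases CharP.char_is_prime_or_zero A p with hpp | rfl
  · -- positive characteristic
    have : Fact p.Prime := ⟨hpp⟩
    let _ : Algebra (ZMod p) A := ZMod.algebra A p
    have : Algebra.FiniteType (ZMod p) A := .of_restrictScalars_finiteType ℤ (ZMod p) A
    obtain ⟨m, hm⟩ := Ideal.exists_maximal A
    obtain ⟨n, φ, hφ⟩ := exists_inj (ZMod p) A m hm.ne_top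
    have hfin : Module.Finite (ZMod p) (A ⧸ m) := by
      let _ : Field (A ⧸ m) := Ideal.Quotient.field m
      exact finite_of_finite_type_of_isJacobsonRing (ZMod p) (A ⧸ m)
    have hfin' : Finite (A ⧸ m) := Module.finite_of_finite (ZMod p)
    have : Module.Finite ℤ (Additive (A ⧸ m)ˣ) := inferInstance
    have := finite_prod (G := Fin n → Multiplicative ℤ) (H := (A ⧸ m)ˣ)
    refine finite_of_inj (φ.prod (Units.map (Ideal.Quotient.mk m : A →* A ⧸ m))) ?_
    rw [injective_iff_map_eq_one]
    intro u hu
    refine hφ u congr(($hu).1) ?_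
    have h1 := congr((($hu).2 : A ⧸ m))
    exact h1
  · -- characteristic zero
    have : CharZero A := CharP.charP_to_charZero A
    let M : Submonoid A := Algebra.algebraMapSubmonoid A (nonZeroDivisors ℤ)
    let B := Localization M
    have hM : M ≤ nonZeroDivisors A := by
      rintro _ ⟨z, hz, rfl⟩
      rw [mem_nonZeroDivisors_iff_ne_zero]
      rw [SetLike.mem_coe, mem_nonZeroDivisors_iff_ne_zero] at hz
      simpa using hz
    have hdom : IsDomain B := IsLocalization.isDomain_localization hM
    have hinj : Function.Injective (algebraMap A B) := IsLocalization.injective B hM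
    let ψ : ℚ →+* B := IsLocalization.lift (M := nonZeroDivisors ℤ) (g := algebraMap ℤ B) (by
      rintro ⟨z, hz⟩
      have h1 := IsLocalization.map_units B (⟨algebraMap ℤ A z, ⟨z, hz, rfl⟩⟩ : M)
      rwa [← IsScalarTower.algebraMap_apply] at h1)
    let _ : Algebra ℚ B := ψ.toAlgebra
    have hft : Algebra.FiniteType ℚ B := by
      obtain ⟨s, hs⟩ := ‹Algebra.FiniteType ℤ A›.out
      classical
      refine ⟨⟨s.image (algebraMap A B), ?_⟩⟩
      rw [eq_top_iff]
      intro b _
      obtain ⟨⟨a, ⟨_, z, hz, rfl⟩⟩, hb⟩ := IsLocalization.surj M b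
      have hA : ∀ a : A, algebraMap A B a ∈ Algebra.adjoin ℚ ((s.image (algebraMap A B) : Finset B) : Set B) := by
        intro a
        have ha : a ∈ Algebra.adjoin ℤ (s : Set A) := hs ▸ trivial
        refine Algebra.adjoin_induction (p := fun x _ => algebraMap A B x ∈
          Algebra.adjoin ℚ ((s.image (algebraMap A B) : Finset B) : Set B)) ?_ ?_ ?_ ?_ ha
        · intro x hx
          refine Algebra.subset_adjoin ?_
          rw [Finset.coe_image]
          exact ⟨x, hx, rfl⟩
        · intro r
          rw [eq_intCast, map_intCast]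
          exact intCast_mem _ r
        · intro x y _ _ hx hy
          rw [map_add]
          exact add_mem hx hy
        · intro x y _ _ hx hy
          rw [map_mul]
          exact mul_mem hx hy
      have hz0 : (z : ℚ) ≠ 0 := by
        rw [SetLike.mem_coe, mem_nonZeroDivisors_iff_ne_zero] at hz
        exact_mod_cast hz
      have h2 : b = algebraMap ℚ B (z : ℚ)⁻¹ * algebraMap A B a := by
        have h3 : algebraMap A B (algebraMap ℤ A z) = algebraMap ℚ B (z : ℚ) := by
          rw [eq_intCast, map_intCast, map_intCast]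
        change b * algebraMap A B (algebraMap ℤ A z) = algebraMap A B a at hb
        rw [← hb, h3, mul_comm b, ← mul_assoc, ← map_mul, inv_mul_cancel₀ hz0, map_one, one_mul]
      rw [h2]
      exact mul_mem (Subalgebra.algebraMap_mem _ _) (hA a)
    obtain ⟨m, hm⟩ := Ideal.exists_maximal B
    obtain ⟨n, φ, hφ⟩ := exists_inj ℚ B m hm.ne_top
    let _ : Field (B ⧸ m) := Ideal.Quotient.field m
    have hfin : Module.Finite ℚ (B ⧸ m) := finite_of_finite_type_of_isJacobsonRing ℚ (B ⧸ m)
    have hch : CharZero (B ⧸ m) := algebraRat.charZero _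
    have hnf : NumberField (B ⧸ m) :=
      { to_charZero := hch
        to_finiteDimensional := by
          convert hfin
          exact Subsingleton.elim _ _ }
    obtain ⟨S, hS, hSi⟩ := exists_integer ((Ideal.Quotient.mk m).comp (algebraMap A B))
    have h1 : Module.Finite ℤ (Additive (S.unit (B ⧸ m))) := finite_sUnit _ S hS
    have h2 : Module.Finite ℤ (Additive (S.integer (B ⧸ m))ˣ) :=
      finite_of_inj (S.unitEquivUnitsInteger (B ⧸ m)).symm.toMonoidHom (MulEquiv.injective _)
    have h3 := finite_prod (G := Fin n → Multiplicative ℤ) (H := (S.integer (B ⧸ m))ˣ)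
    let χ : A →+* S.integer (B ⧸ m) := ((Ideal.Quotient.mk m).comp (algebraMap A B)).codRestrict _ hSi
    refine finite_of_inj ((φ.comp (Units.map (algebraMap A B : A →* B))).prod (Units.map (χ : A →* S.integer (B ⧸ m)))) ?_
    rw [injective_iff_map_eq_one]
    intro u hu
    have h4 := hφ (Units.map (algebraMap A B : A →* B) u) congr(($hu).1) (by
      have h5 := congr(((($hu).2 : S.integer (B ⧸ m)) : B ⧸ m))
      exact h5)
    apply Units.ext
    apply hinj
    rw [Units.val_one, map_one]
    exact congr(($h4 : B))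

/-- **Units of a reduced ring of finite type over `ℤ` are finitely generated.** -/
theorem unitsFG (A : Type u) [CommRing A] [IsReduced A] [Algebra.FiniteType ℤ A] : Group.FG Aˣ := by
  have hN : IsNoetherianRing A := Algebra.FiniteType.isNoetherianRing ℤ A
  have hfin : Finite (minimalPrimes A) := minimalPrimes.finite_of_isNoetherianRing A
  have := Fintype.ofFinite (minimalPrimes A)
  have hp : ∀ P : minimalPrimes A, (P.1).IsPrime := fun P => P.2.1.1
  let f : Aˣ →* ((P : minimalPrimes A) → (A ⧸ P.1)ˣ) := MonoidHom.pi fun P => Units.map (Ideal.Quotient.mk P.1 : A →* _)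
  have hf : Function.Injective f := by
    intro u v huv
    apply Units.ext
    rw [← sub_eq_zero]
    have h1 : (u : A) - v ∈ sInf (minimalPrimes A) := by
      rw [Ideal.mem_sInf]
      intro P hP
      have h2 := congr(((($huv) ⟨P, hP⟩ : (A ⧸ P)ˣ) : A ⧸ P))
      rw [← Ideal.Quotient.eq_zero_iff_mem, map_sub, sub_eq_zero]
      exact h2
    have h3 : sInf (minimalPrimes A) = ⊥ := by
      rw [minimalPrimes, Ideal.sInf_minimalPrimes]
      exact nilradical_eq_bot_iff.2 inferInstance
    rw [h3] at h1
    exact h1
  have h1 : ∀ P : minimalPrimes A, Module.Finite ℤ (Additive (A ⧸ P.1)ˣ) := fun P => by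
    have := hp P
    have : @Algebra.FiniteType ℤ (A ⧸ P.1) _ _ (Ring.toIntAlgebra _) :=
      @Algebra.FiniteType.of_surjective ℤ A (A ⧸ P.1) _ _ _ _ (Ring.toIntAlgebra _) _
        (RingHom.toIntAlgHom (Ideal.Quotient.mk P.1)) Ideal.Quotient.mk_surjective
    exact finite_domain _
  have h2 : Module.Finite ℤ (Additive ((P : minimalPrimes A) → (A ⧸ P.1)ˣ)) := by
    let e : ((P : minimalPrimes A) → Additive (A ⧸ P.1)ˣ) →+ Additive ((P : minimalPrimes A) → (A ⧸ P.1)ˣ) :=
      { toFun := fun f => Additive.ofMul fun i => (f i).toMul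
        map_zero' := rfl
        map_add' := fun _ _ => rfl }
    exact Module.Finite.of_surjective e.toIntLinearMap fun x => ⟨fun i => Additive.ofMul (x.toMul i), rfl⟩
  have h3 := finite_of_inj f hf
  rw [GroupFG.iff_add_fg]
  exact Module.Finite.iff_addGroup_fg.1 h3

end K792.Units
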